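import Cfsg.Agent.H922.RG.NiB
import Cfsg.Agent.H169.RG.Useful
import Cfsg.Agent.H351.RG.NiX
import Cfsg.Agent.H566.TD.NiC

/-!
# S3509, `³D₄(q)`, box T1b: the `Nice` subgroup of an element of `A2Elt` (helper922)
-/

set_option autoImplicit false
set_option linter.unusedSectionVars false

namespace Cfsg.Agent.H922.RG

open CoxeterSystem Cfsg Cfsg.Lie Cfsg.Lie.ChevalleyDatum
open Cfsg.Agent.ChevalleyStructure Cfsg.Agent.ChevalleyStructure.Elts Cfsg.Agent.ChevalleyStructure.CoxeterGeom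
  Cfsg.Agent.ChevalleyStructure.CoxeterGeomTypes Cfsg.Agent.ChevalleyStructure.NPerm
open Cfsg.Agent.Tits.Roots Cfsg.Agent.Tits.Core Cfsg.Agent.Nodes Cfsg.Agent.Nodes.Reps Cfsg.Agent.Nodes.BNOf
  Cfsg.Agent.Nodes.RGDChev Cfsg.Agent.Nodes.Bruhat Cfsg.Agent.Nodes.NormalForm Cfsg.Agent.Nodes.Coroot
open Cfsg.Agent.KFacts.RgdField Cfsg.Agent.KFacts.RgdChevCoord Cfsg.Agent.KFacts.RgdSL
open Cfsg.Agent.BpExc Cfsg.Agent.BpExc.TorCent Cfsg.Agent.BpExc.TorChev Cfsg.Agent.BpExc.Tow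
  Cfsg.Agent.BpExc.TowChev Cfsg.Agent.BpExc.Fr Cfsg.Agent.BpExc.Pair Cfsg.Agent.BpExc.LangFr Cfsg.Agent.GpExc.Field
  Cfsg.Agent.BpExc.NInst Cfsg.Agent.BpExc.NChev
open Cfsg.Agent.H469.Exc Cfsg.Agent.H316.U6 Cfsg.Agent.H169.RG Cfsg.Agent.H28.RG
open Cfsg.Agent.H441.RG (PK QK TK PP0 QQ0 PP0_eq QQ0_eq mem_PP0)
open Cfsg.Agent.H398.RG (MK Cond Base MK_le_self cj_le_MK conj_MK)
open Cfsg.Agent.H864.TD
open Cfsg.Agent.H884.NA (ExcAlt)
open Cfsg.Agent.H129.TorusChar Cfsg.Agent.H129.TriD4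
open Cfsg.Agent.H378.OmD4 (V Mx bas pos reps Tab fn_add fn_sm exists_fn fn_inj fn_bas exists_tab mem_pos)

universe u v

/-- the sum of the coordinates -/
def sc (x : Fin 4 → ℤ) : ℤ := x 0 + x 1 + x 2 + x 3

theorem sc_add (x y : Fin 4 → ℤ) : sc (x + y) = sc x + sc y := by
  simp only [sc, Pi.add_apply]
  ring

theorem sc_pos {x : Fin 4 → ℤ} (h0 : 0 ≤ x) (h1 : x ≠ 0) : 0 < sc x := by
  have h2 : ∀ i, 0 ≤ x i := h0
  by_contra hcon
  apply h1
  have h3 := h2 0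
  have h4 := h2 1
  have h5 := h2 2
  have h6 := h2 3
  unfold sc at hcon
  funext i
  fin_cases i
  · show x 0 = 0
    omega
  · show x 1 = 0
    omega
  · show x 2 = 0
    omega
  · show x 3 = 0
    omega

/-- an additive map permuting `a, b, a + b` fixes `a + b` -/
theorem fix_sum {a b x y : Fin 4 → ℤ} (ha : 0 ≤ a) (hb : 0 ≤ b) (ha0 : a ≠ 0) (hb0 : b ≠ 0) (h2a : a + a ≠ b)
    (h2b : b + b ≠ a) (hx : x = a ∨ x = b ∨ x = a + b) (hy : y = a ∨ y = b ∨ y = a + b)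
    (hxy : x + y = a ∨ x + y = b ∨ x + y = a + b) : x + y = a + b := by
  have pa := sc_pos ha ha0
  have pb := sc_pos hb hb0
  rcases hxy with h | h | h
  · exfalso
    have h1 := congrArg sc h
    rw [sc_add] at h1
    rcases hx with rfl | rfl | rfl <;> rcases hy with rfl | rfl | rfl <;> (try simp only [sc_add] at h1) <;>
      first
      | omega
      | exact h2b h
      | exact h2a h
  · exfalso
    have h1 := congrArg sc h
    rw [sc_add] at h1
    rcases hx with rfl | rfl | rfl <;> rcases hy with rfl | rfl | rfl <;> (try simp only [sc_add] at h1) <;>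
      first
      | omega
      | exact h2a h
      | exact h2b h
  · exact h

section

variable {r q : ℕ} [hr : Fact r.Prime] {K₀ : Type v} [Group K₀] {m : MData RGDTwD4.hp r q K₀}
  {y : ↥(chevD4.group (KK r))} {f : TorForm m y} {a b : Fin 4 → ℤ} (h : AB f a b)

include h

theorem AB.aa : a + a ≠ b := by
  intro e
  obtain ⟨va, hva, hva'⟩ := mem_pos coxeterD4.toCoxeterSystem h.ra h.pa
  obtain ⟨vb, hvb, hvb'⟩ := mem_pos coxeterD4.toCoxeterSystem h.rb h.pb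
  exact no3 va hva (by
    have e1 : va.add va = vb := fn_inj (by rw [fn_add, hva', hvb', e])
    rw [e1]; exact hvb)

theorem AB.bb : b + b ≠ a := by
  intro e
  obtain ⟨va, hva, hva'⟩ := mem_pos coxeterD4.toCoxeterSystem h.ra h.pa
  obtain ⟨vb, hvb, hvb'⟩ := mem_pos coxeterD4.toCoxeterSystem h.rb h.pb
  exact no3 vb hvb (by
    have e1 : vb.add vb = va := fn_inj (by rw [fn_add, hva', hvb', e])
    rw [e1]; exact hva)

/-- the component group fixes `a + b` -/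
theorem AB.hPP [Finite coxeterD4.Group] : ∀ w ∈ PP coxeterD4.toCoxeterSystem RGDTwD4.hp.isCartan (ch RGDTwD4.hp) f.t,
    rep coxeterD4.toCoxeterSystem RGDTwD4.hp.isCartan w (a + b) = a + b := by
  intro w hw
  obtain ⟨h1, h2⟩ := mem_PP.1 hw
  have key : ∀ c, Six a b c → 0 ≤ c → rep coxeterD4.toCoxeterSystem RGDTwD4.hp.isCartan w c = a ∨
      rep coxeterD4.toCoxeterSystem RGDTwD4.hp.isCartan w c = b ∨
      rep coxeterD4.toCoxeterSystem RGDTwD4.hp.isCartan w c = a + b := by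
    intro c hc h0
    have h3 := (h.six c).2 hc
    refine h.pos3 ((h.six _).1 ⟨h3.1.act w, ?_⟩) (h2 c h3 h0)
    rw [h1 c h3.1]
    exact h3.2
  have k1 := key a (Or.inl rfl) h.pa
  have k2 := key b (Or.inr (Or.inr (Or.inl rfl))) h.pb
  have k3 := key (a + b) (Or.inr (Or.inr (Or.inr (Or.inr (Or.inl rfl))))) (add_nonneg h.pa h.pb)
  rw [map_add] at k3 ⊢
  exact fix_sum h.pa h.pb h.ra.ne_zero h.rb.ne_zero h.aa h.bb k1 k2 k3

omit h in
theorem KF_eq : KF f = H441.RG.KT RGDTwD4.hp f.α f.t := by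
  unfold KF KW H441.RG.KT TK
  rw [PP0_eq (locFin r), QQ0_eq (locFin r), TL_eq RGDTwD4.hp (locFin r)]

omit h in
theorem zf : H441.RG.ZForm m f.α f.θ f.t f.z := H441.RG.zform f

omit h in
theorem finite_KF : Finite ↥(KF f) := by
  rw [KF_eq]
  have := (zf (f := f)).finite
  exact Finite.of_injective _ (Subgroup.inclusion_injective (zf (f := f)).KT_le)

omit h in
theorem core_KF : pCore r ↥(KF f) = ⊥ := by
  rw [KF_eq]
  exact (zf (f := f)).pCore_KT

/-- the condition -/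
theorem AB.condT (h2 : q = 2 → f.θ a = a ∧ f.θ b = b) :
    Cond (H441.RG.KT RGDTwD4.hp f.α f.t) (XX chevD4 4 (KK r) (a + b) ⊓ fixedSubgroup f.α)
      (XX chevD4 4 (KK r) (-(a + b)) ⊓ fixedSubgroup f.α) := by
  have := finite_KF (f := f)
  have hc := h.cond core_KF h2
  rw [KF_eq, Xb_eq, Xb_eq] at hc
  exact hc

/-- no exceptional alternating group -/
theorem AB.hna (h2 : q = 2 → f.θ a = a ∧ f.θ b = b)
    (hcard : Nat.card ↥(PK RGDTwD4.hp coxeterD4.toCoxeterSystem f.α f.t) = q ^ 3) :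
    ∀ j, ExcAlt (r ^ m.e) j → ¬ Nonempty ((↥(MK (H441.RG.KT RGDTwD4.hp f.α f.t) (XX chevD4 4 (KK r) (a + b) ⊓ fixedSubgroup f.α)) ⧸
      Subgroup.center ↥(MK (H441.RG.KT RGDTwD4.hp f.α f.t) (XX chevD4 4 (KK r) (a + b) ⊓ fixedSubgroup f.α))) ≃*
        alternatingGroup (Fin j)) := by
  intro j hj
  rw [m.hq] at hj
  have hfin := finite_KF (f := f)
  have hB := h.base core_KF
  obtain ⟨hXM, hYM, hMK, hKn, hperf, hs, hcm⟩ := hB.all (h.cond core_KF h2)
  rw [KF_eq] at hfin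
  rw [Xb_eq, KF_eq] at hXM hMK hperf
  rw [Xb_eq, Xb_eq, KF_eq] at hYM
  have hfM : Finite ↥(MK (H441.RG.KT RGDTwD4.hp f.α f.t) (XX chevD4 4 (KK r) (a + b) ⊓ fixedSubgroup f.α)) :=
    Finite.of_injective _ (Subgroup.inclusion_injective hMK)
  have hPle : PK RGDTwD4.hp coxeterD4.toCoxeterSystem f.α f.t ≤ H441.RG.KT RGDTwD4.hp f.α f.t := le_sup_left.trans le_sup_left
  have hexc : ∀ k, (q = 4 ∧ k = 5) ∨ (q = 5 ∧ k = 5) ∨ (q = 9 ∧ k = 6) →
      ¬ Nonempty ((↥(MK (H441.RG.KT RGDTwD4.hp f.α f.t) (XX chevD4 4 (KK r) (a + b) ⊓ fixedSubgroup f.α)) ⧸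
      Subgroup.center ↥(MK (H441.RG.KT RGDTwD4.hp f.α f.t) (XX chevD4 4 (KK r) (a + b) ⊓ fixedSubgroup f.α))) ≃*
        alternatingGroup (Fin k)) := by
    intro k hk
    refine H351.RG.not_exc (P := PK RGDTwD4.hp coxeterD4.toCoxeterSystem f.α f.t) hperf
      (fun g hg x hx => conj_MK (hPle hg) hx) (fun g hg hx => ?_) hcard hk
    exact H566.TD.eq_one_of_comm f h.ra h.rb h.rab h.pa h.pb h.six h.fix hg (fun x hx' => hx x (hXM hx'))
      (fun x hx' => hx x (hYM hx'))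
  rcases hj with hj | hj | hj | ⟨hq, rfl⟩
  · exact hexc j (Or.inl hj)
  · exact hexc j (Or.inr (Or.inl hj))
  · exact hexc j (Or.inr (Or.inr hj))
  · have hfC := (zf (f := f)).finite
    obtain ⟨S, hS⟩ := (zf (f := f)).d.sylP (locFin r)
    have hcS : Nat.card ↥S = 8 := by
      have h5 : Nat.card ↥(S : Subgroup ↥(fixC f.α f.t)) =
          Nat.card ↥((PK RGDTwD4.hp coxeterD4.toCoxeterSystem f.α f.t).subgroupOf (fixC f.α f.t)) := by rw [hS]
      have h6 : Nat.card ↥((PK RGDTwD4.hp coxeterD4.toCoxeterSystem f.α f.t).subgroupOf (fixC f.α f.t)) =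
          Nat.card ↥(PK RGDTwD4.hp coxeterD4.toCoxeterSystem f.α f.t) :=
        Nat.card_congr (Subgroup.subgroupOfEquivOfLe (hPle.trans (zf (f := f)).KT_le)).toEquiv
      have h7 : q ^ 3 = 8 := by rw [show q ^ 3 = 2 ^ 3 from congrArg (· ^ 3) hq]; norm_num
      exact h5.trans (h6.trans (hcard.trans h7))
    have hr2 : r = 2 := by
      have e1 : r ^ m.e = 2 := m.hq.trans hq
      have e2 : r ∣ 2 := by
        rw [← e1]
        exact dvd_pow_self r m.he.ne'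
      exact (Nat.prime_dvd_prime_iff_eq hr.out Nat.prime_two).1 e2
    have key : ∀ (r' : ℕ) (hr' : r' = 2) (S' : Sylow r' ↥(fixC f.α f.t)), Nat.card ↥S' = 8 →
        ∃ S'' : Sylow 2 ↥(fixC f.α f.t), Nat.card ↥S'' = 8 := by
      rintro r' rfl S' hS'
      exact ⟨S', hS'⟩
    obtain ⟨S2, hS2⟩ := key r hr2 S hcS
    exact H351.RG.not_a8 (hMK.trans (zf (f := f)).KT_le) S2 hS2

/-- **T1b.** -/
theorem AB.nice (hy1 : y ≠ 1) (h2 : q = 2 → f.θ a = a ∧ f.θ b = b)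
    (hcard : Nat.card ↥(PK RGDTwD4.hp coxeterD4.toCoxeterSystem f.α f.t) = q ^ 3) :
    ∃ M, Nice m M ∧ ∀ s, m.σ s = s → s * y = y * s → s ∈ Subgroup.normalizer (M : Set (Y4 r)) := by
  have := finite_W RGDTwD4.hp coxeterD4.toCoxeterSystem
  have ht1 : f.t ≠ 1 := by
    intro h
    apply hy1
    rw [f.eq, h]
    group
  obtain ⟨h1, h2', h3, h4, h5⟩ := core_useful (zf (f := f)) h.top (lr_weak f.lang f.fr (exists_w_top _ h.rab) h.fix)
    (h.condT h2) (h.hna h2 hcard) (exists_not_mem f.mem ht1)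
  refine ⟨MZ RGDTwD4.hp f.α f.t f.z (a + b), ⟨h1, h2', h3, h4, h5⟩, fun s hs hsy => ?_⟩
  exact H441.RG.norm_strongT f h.rab h.hPP hs hsy

end

end Cfsg.Agent.H922.RG
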