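import Cfsg.Agent.H922.RG.NiC
import Cfsg.Agent.H566.TD.NiD
import Cfsg.Agent.H864.TD.Asm

/-!
# S3509, `³D₄(q)`, box T1: `HP m` (helper922)

Every `r'`-element `s` of `Y^σ` is of type `Φ₁₂`, or `q = 2` and `s ^ 27 = 1`, or `s` normalises a `Nice` subgroup.
-/

set_option autoImplicit false
set_option linter.unusedSectionVars false

namespace Cfsg.Agent.H922.RG

open CoxeterSystem Cfsg Cfsg.Lie Cfsg.Lie.ChevalleyDatum
open Cfsg.Agent.ChevalleyStructure Cfsg.Agent.ChevalleyStructure.CoxeterGeom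
open Cfsg.Agent.Nodes Cfsg.Agent.Nodes.RGDChev
open Cfsg.Agent.KFacts.RgdField Cfsg.Agent.KFacts.RgdChevCoord
open Cfsg.Agent.BpExc Cfsg.Agent.H469.Exc Cfsg.Agent.H316.U6 Cfsg.Agent.H169.RG Cfsg.Agent.H864.TD
open Cfsg.Agent.H129.TriD4

/-- **BOX T1.** -/
theorem hp_all {r q : ℕ} [hr : Fact r.Prime] {K₀ : Type} [Group K₀] [Finite K₀] (m : MData RGDTwD4.hp r q K₀)
    (hg : m.g = tri) : HP m := by
  intro s hs d hd hsd
  have hd0 : d ≠ 0 := by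
    rintro rfl
    rw [Nat.coprime_zero_left] at hd
    exact hr.out.one_lt.ne' hd
  obtain ⟨f⟩ := exists_torForm m hs hd0 hd hsd
  by_cases h12 : ∀ v, f.θ (f.θ (f.θ (f.θ v))) + v = f.θ (f.θ v)
  · exact Or.inl ⟨f, h12⟩
  by_cases h9 : q = 2 ∧ s ^ 9 = 1
  · refine Or.inr (Or.inl ⟨h9.1, ?_⟩)
    rw [show 27 = 9 * 3 by norm_num, pow_mul, h9.2, one_pow]
  obtain ⟨y, l, hy, hys, hl, -, hlr, hyl, hy7⟩ := exists_y m (hg.trans tri_eq.symm) f h12 (fun h h' => h9 ⟨h, h'⟩)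
  have hlr' : l.Coprime r := (Nat.coprime_primes hl hr.out).2 hlr
  obtain ⟨f'⟩ := exists_torForm m hy.1 hl.ne_zero hlr' hyl
  obtain ⟨a, b, hAB, h2⟩ := exists_AB f' hg hy
  obtain ⟨M, hM, hn⟩ := hAB.nice hy.2.1 (fun hq => h2 hq (hy7 hq)) (H566.TD.card_PK hAB)
  exact Or.inr (Or.inr ⟨M, hM, hn s hs hys.symm⟩)

end Cfsg.Agent.H922.RG
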